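/-
Kernels of surjections onto `(R/f)^l × R^(s-l)`.
-/
import Groth.Prelude.Def_W4c1frobunstivaNR
import Mathlib.RingTheory.LocalRing.Module
import Mathlib.LinearAlgebra.Dimension.Constructions
import Mathlib.LinearAlgebra.FreeModule.Finite.Basic
import Mathlib.RingTheory.Finiteness.Nakayama
import Mathlib.RingTheory.Jacobson.Ideal

set_option autoImplicit false
set_option backward.isDefEq.respectTransparency false

universe u

open IsLocalRing

namespace NRFreeKerLib

variable {R : Type u} [CommRing R] [IsLocalRing R]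

theorem exists_ker_basis {r : ℕ} {F : Type u} [AddCommGroup F] [Module R F] [Module.Free R F]
    [Module.Finite R F] (π : (Fin r → R) →ₗ[R] F) (hπ : Function.Surjective π) :
    Module.finrank R F ≤ r ∧
      Nonempty (Module.Basis (Fin (r - Module.finrank R F)) R (LinearMap.ker π)) := by
  obtain ⟨σ, hσ⟩ := Module.projective_lifting_property π LinearMap.id hπ
  have hσ' : ∀ y, π (σ y) = y := fun y => LinearMap.congr_fun hσ y
  let ρ : (Fin r → R) →ₗ[R] LinearMap.ker π :=
    (LinearMap.id - σ ∘ₗ π).codRestrict _ fun v => by simp [LinearMap.mem_ker, hσ']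
  have hρ : ρ ∘ₗ (LinearMap.ker π).subtype = LinearMap.id := by
    ext ⟨v, hv⟩ i
    simp [ρ, LinearMap.mem_ker.1 hv]
  haveI hfin : Module.Finite R (LinearMap.ker π) :=
    Module.Finite.of_surjective ρ fun v => ⟨v, LinearMap.congr_fun hρ v⟩
  haveI : Module.Projective R (LinearMap.ker π) :=
    Module.Projective.of_split (LinearMap.ker π).subtype ρ hρ
  haveI : Module.Free R (LinearMap.ker π) := Module.free_of_flat_of_isLocalRing
  let e : (Fin r → R) ≃ₗ[R] LinearMap.ker π × F :=
    LinearEquiv.ofBijective (ρ.prod π) ⟨fun v w h => by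
      have h1 := congrArg (fun p : LinearMap.ker π × F => (p.1 : Fin r → R) + σ p.2) h
      simpa [ρ] using h1, fun p => ⟨p.1 + σ p.2, Prod.ext
        (Subtype.ext (by simp [ρ, hσ', LinearMap.mem_ker.1 p.1.2]))
        (by simp [hσ', LinearMap.mem_ker.1 p.1.2])⟩⟩
  have h := e.finrank_eq
  rw [Module.finrank_prod, Module.finrank_fin_fun] at h
  exact ⟨by omega, ⟨Module.finBasisOfFinrankEq R _ (by omega)⟩⟩

theorem main (R : Type u) [CommRing R] [IsLocalRing R] (f : R)
    (hann : ∀ a : R, a * f = 0 → IsNilpotent a) (r s l : ℕ) (hls : l ≤ s)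
    (φ : (Fin r → R) →ₗ[R]
      ((Fin s → R) ⧸ Submodule.span R (Set.range fun i : Fin l => (Pi.single (Fin.castLE hls i) f : Fin s → R))))
    (hφ : Function.Surjective φ) :
    W4c1frobunstiva.IsNRFree R (LinearMap.ker φ) (r + l - s) ∧
      (l = 0 → Nonempty (Module.Basis (Fin (r - s)) R (LinearMap.ker φ))) := by
  classical
  have hl0 : l = 0 → Nonempty (Module.Basis (Fin (r - s)) R (LinearMap.ker φ)) := by
    rintro rfl
    have hbot : Submodule.span R (Set.range fun i : Fin 0 =>
        (Pi.single (Fin.castLE hls i) f : Fin s → R)) = ⊥ := by simp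
    let e := Submodule.quotEquivOfEqBot _ hbot
    obtain ⟨-, ⟨b⟩⟩ := exists_ker_basis (e.toLinearMap ∘ₗ φ) (e.surjective.comp hφ)
    rw [Module.finrank_fin_fun] at b
    exact ⟨b.map (LinearEquiv.ofEq _ _ (LinearEquiv.ker_comp e φ))⟩
  refine ⟨?_, hl0⟩
  let S := Submodule.span R (Set.range fun i : Fin l => (Pi.single (Fin.castLE hls i) f : Fin s → R))
  by_cases hf : IsUnit f
  · let π : (Fin s → R) →ₗ[R] (Fin (s - l) → R) :=
      LinearMap.funLeft R R fun k : Fin (s - l) => (⟨l + k, by omega⟩ : Fin s)
    have hπ : Function.Surjective π := fun w => by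
      refine ⟨fun i => if h : l ≤ (i : ℕ) then w ⟨i - l, by omega⟩ else 0, funext fun k => ?_⟩
      simp [π, LinearMap.funLeft_apply]
    have hker : LinearMap.ker π = S := by
      refine le_antisymm (fun v hv => ?_) (Submodule.span_le.2 ?_)
      · obtain ⟨u, rfl⟩ := hf
        have hv' : v = ∑ i : Fin l, (v (Fin.castLE hls i) * ↑u⁻¹) •
            (Pi.single (Fin.castLE hls i) (u : R) : Fin s → R) := by
          ext j
          rcases lt_or_ge (j : ℕ) l with h | h
          · rw [Finset.sum_apply, Finset.sum_eq_single ⟨j, h⟩]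
            · have hj : Fin.castLE hls ⟨j, h⟩ = j := Fin.ext rfl
              simp [hj, mul_assoc]
            · intro b _ hb
              rw [Pi.smul_apply, Pi.single_eq_of_ne (i := Fin.castLE hls b) (i' := j) (fun h' => hb (Fin.ext (congrArg Fin.val h').symm)),
                smul_zero]
            · simp
          · have h0 := congrFun (LinearMap.mem_ker.1 hv) ⟨j - l, by omega⟩
            simp only [π, LinearMap.funLeft_apply, Pi.zero_apply] at h0
            rw [show (⟨l + (j - l), _⟩ : Fin s) = j from Fin.ext (by simp; omega)] at h0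
            rw [h0, Finset.sum_apply, Finset.sum_eq_zero]
            intro b _
            rw [Pi.smul_apply, Pi.single_eq_of_ne (fun h' => ?_), smul_zero]
            have := congrArg Fin.val h'
            simp at this
            omega
        rw [hv']
        exact Submodule.sum_mem _ fun i _ => Submodule.smul_mem _ _ (Submodule.subset_span ⟨i, rfl⟩)
      · rintro _ ⟨i, rfl⟩
        refine funext fun k => ?_
        show (Pi.single (Fin.castLE hls i) f : Fin s → R) ⟨l + k, _⟩ = 0
        rw [Pi.single_eq_of_ne (fun h' => ?_)]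
        have := congrArg Fin.val h'
        simp at this
        omega
    let e : ((Fin s → R) ⧸ S) ≃ₗ[R] (Fin (s - l) → R) :=
      (Submodule.quotEquivOfEq _ _ hker.symm).trans (π.quotKerEquivOfSurjective hπ)
    obtain ⟨hle, ⟨b⟩⟩ := exists_ker_basis (e.toLinearMap ∘ₗ φ) (e.surjective.comp hφ)
    rw [Module.finrank_fin_fun] at b hle
    let b' := (b.map (LinearEquiv.ofEq _ _ (LinearEquiv.ker_comp e φ))).reindex
      (finCongr (show r - (s - l) = r + l - s by omega))
    exact ⟨b', b'.span_eq, fun a ha i => by
      rw [Fintype.linearIndependent_iff.1 b'.linearIndependent a ha i]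
      exact IsNilpotent.zero⟩
  · obtain ⟨ψ, hψ⟩ := Module.projective_lifting_property S.mkQ φ S.mkQ_surjective
    have hψ' : ∀ v, S.mkQ (ψ v) = φ v := fun v => LinearMap.congr_fun hψ v
    have hsm : S ≤ maximalIdeal R • (⊤ : Submodule R (Fin s → R)) := Submodule.span_le.2 (by
      rintro _ ⟨i, rfl⟩
      show (Pi.single (Fin.castLE hls i) f : Fin s → R) ∈ _
      rw [show (Pi.single (Fin.castLE hls i) f : Fin s → R) =
        f • Pi.single (Fin.castLE hls i) 1 by rw [← Pi.single_smul, smul_eq_mul, mul_one]]
      exact Submodule.smul_mem_smul hf Submodule.mem_top)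
    have hψs : Function.Surjective ψ := by
      rw [← LinearMap.range_eq_top, ← top_le_iff]
      refine Submodule.le_of_le_smul_of_le_jacobson_bot Module.Finite.fg_top
        (maximalIdeal_le_jacobson ⊥) fun v _ => ?_
      obtain ⟨w, hw⟩ := hφ (S.mkQ v)
      rw [← hψ'] at hw
      rw [show v = ψ w + (v - ψ w) from (add_sub_cancel _ _).symm]
      exact Submodule.add_mem_sup (LinearMap.mem_range_self ψ w)
        (hsm ((Submodule.Quotient.eq S).1 hw.symm))
    obtain ⟨hle, ⟨b⟩⟩ := exists_ker_basis ψ hψs
    rw [Module.finrank_fin_fun] at b hle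
    obtain ⟨σ, hσ⟩ := Module.projective_lifting_property ψ LinearMap.id hψs
    have hσ' : ∀ y, ψ (σ y) = y := fun y => LinearMap.congr_fun hσ y
    have hmemφ : ∀ v, v ∈ LinearMap.ker φ ↔ ψ v ∈ S := fun v => by
      rw [LinearMap.mem_ker, ← hψ', Submodule.mkQ_apply, Submodule.Quotient.mk_eq_zero]
    let u : Fin (r - s) ⊕ Fin l → LinearMap.ker φ := Sum.elim
      (fun i => ⟨(b i : Fin r → R), (hmemφ _).2 (by rw [LinearMap.mem_ker.1 (b i).2]; exact zero_mem S)⟩)
      (fun i => ⟨σ (Pi.single (Fin.castLE hls i) f), (hmemφ _).2 (by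
        rw [hσ']; exact Submodule.subset_span ⟨i, rfl⟩)⟩)
    let m : Fin (r + l - s) → LinearMap.ker φ :=
      u ∘ (finSumFinEquiv.trans (finCongr (show r - s + l = r + l - s by omega))).symm
    refine ⟨m, ?_, fun a ha i => ?_⟩
    · rw [eq_top_iff]
      rintro ⟨v, hv⟩ -
      have hv' := (hmemφ v).1 hv
      obtain ⟨c, hc⟩ := (Submodule.mem_span_range_iff_exists_fun _).1 hv'
      have h0 : v - σ (ψ v) ∈ LinearMap.ker ψ := by simp [LinearMap.mem_ker, hσ']
      have hrange : Set.range m = Set.range u := (Equiv.surjective _).range_comp u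
      rw [hrange]
      refine (Submodule.mem_span_range_iff_exists_fun _).2
        ⟨Sum.elim (fun i => b.repr ⟨_, h0⟩ i) c, Subtype.ext ?_⟩
      rw [Fintype.sum_sum_type]
      simp only [Sum.elim_inl, Sum.elim_inr, u, Submodule.coe_add, AddSubmonoidClass.coe_finsetSum,
        Submodule.coe_smul]
      have h1 : ∑ i, b.repr ⟨_, h0⟩ i • (b i : Fin r → R) = v - σ (ψ v) := by
        have := congrArg Subtype.val (b.sum_repr ⟨_, h0⟩)
        simpa [-Module.Basis.sum_repr] using this
      rw [h1, ← hc]
      simp
    · let τ := finSumFinEquiv.trans (finCongr (show r - s + l = r + l - s by omega))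
      rw [← τ.sum_comp, Fintype.sum_sum_type] at ha
      have ha' := congrArg (fun x : LinearMap.ker φ => (x : Fin r → R)) ha
      simp only [m, τ, Function.comp_apply, Equiv.symm_apply_apply, u, Sum.elim_inl, Sum.elim_inr,
        Submodule.coe_add, AddSubmonoidClass.coe_finsetSum, Submodule.coe_smul,
        ZeroMemClass.coe_zero] at ha'
      have hpsi := congrArg ψ ha'
      simp only [map_add, map_sum, map_smul, map_zero, hσ',
        fun j => LinearMap.mem_ker.1 (b j).2, smul_zero, Finset.sum_const_zero, zero_add] at hpsi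
      have hc : ∀ j : Fin l, a (τ (.inr j)) * f = 0 := fun j => by
        have := congrFun hpsi (Fin.castLE hls j)
        rw [Finset.sum_apply, Finset.sum_eq_single j] at this
        · simpa [τ] using this
        · intro b _ hb
          rw [Pi.smul_apply, Pi.single_eq_of_ne (i := Fin.castLE hls b) (i' := Fin.castLE hls j)
            (fun h => hb (Fin.castLE_injective hls h).symm), smul_zero]
        · simp
      have hzero : ∑ j : Fin l, a (τ (.inr j)) • σ (Pi.single (Fin.castLE hls j) f) = 0 :=
        Finset.sum_eq_zero fun j _ => by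
          rw [← map_smul, ← Pi.single_smul, smul_eq_mul, hc j, Pi.single_zero, map_zero]
      rw [hzero, add_zero] at ha'
      have hb0 := Fintype.linearIndependent_iff.1 b.linearIndependent (fun j => a (τ (.inl j)))
        (Subtype.ext (by simpa [τ] using ha'))
      obtain ⟨j | j, rfl⟩ := τ.surjective i
      · rw [hb0 j]
        exact IsNilpotent.zero
      · exact hann _ (hc j)

end NRFreeKerLib
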